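import Cfsg.Agent.H25.Cov.NoOrd
import Cfsg.Agent.H537.CopSC
import Cfsg.Agent.H848.McLLocal
import Cfsg.Agent.H904.HSIso
import Cfsg.Agent.H412.PslCase

/-!
# No elements of order 55 in `M11`, `M12`, `M22`, `McL`, `HS`, `PSL(2, 11)` (S3938, helper800)
-/

set_option autoImplicit false

namespace Cfsg.Agent.H800.Fif

open Cfsg Cfsg.Agent.OrdDiv Cfsg.Agent.H25.Cov Cfsg.Agent.H537.Cop

universe u

/-- elements of order 11 are self-centralizing: no element of order 55 -/
theorem ne_of_sc {S : Type u} [Group S] (h : SC 11 S) (z : S) : orderOf z ≠ 5 * 11 := by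
  intro hz
  obtain ⟨x, y, hx, hy, hxy⟩ := exists_pair hz (by norm_num) (by norm_num)
  have h1 := h y hy
  have h2 : x ∈ Subgroup.centralizer ({y} : Set S) := by
    rw [Subgroup.mem_centralizer_singleton_iff]
    exact hxy
  have h3 : orderOf (⟨x, h2⟩ : Subgroup.centralizer ({y} : Set S)) ∣ 11 := by
    rw [← h1]
    exact orderOf_dvd_natCard _
  rw [Subgroup.orderOf_mk, hx] at h3
  exact absurd h3 (by norm_num)

theorem noOrd_m11 : NoOrd.{0} .m11 (5 * 11) := fun _ _ _ h => ne_of_sc (m11_11 h)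

theorem noOrd_m12 : NoOrd.{0} .m12 (5 * 11) := fun _ _ _ h => ne_of_sc (m12_11 h)

theorem noOrd_m22 : NoOrd.{0} .m22 (5 * 11) := fun _ _ _ h => ne_of_sc (m22_11 h)

theorem noOrd_hs : NoOrd.{0} .hs (5 * 11) := fun _ _ _ h => ne_of_sc fun _ hx => H904.HSIso.card_eleven h hx

theorem noOrd_mcl : NoOrd.{0} .mcl (5 * 11) := by
  rintro S _ _ ⟨e⟩
  exact ne_of_sc (SC.congr e fun _ hx => H848.McLLocal.card_eleven hx)

theorem noOrd_psl211 : NoOrd.{0} (.psl 2 11) (5 * 11) := by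
  rintro S _ _ ⟨F, _, _, hF, ⟨e⟩⟩ z hz
  have hp : Fact (Nat.Prime 11) := ⟨by norm_num⟩
  have hch : CharP F 11 := by
    obtain ⟨p, hp⟩ := CharP.exists F
    have : Fact p.Prime := ⟨CharP.char_is_prime F p⟩
    obtain ⟨n, hn⟩ := FiniteField.card F p
    rw [hF] at hn
    have h1 : p ∣ 11 := by
      rw [hn.2]
      exact dvd_pow_self p n.ne_zero
    rcases (Nat.dvd_prime (by norm_num)).1 h1 with h | h
    · exact absurd h (CharP.char_is_prime F p).one_lt.ne'
    · rw [← h]; exact hp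
  have h2 : (2 : F) ≠ 0 := by
    intro h
    have h1 : ((2 : ℕ) : F) = 0 := by exact_mod_cast h
    rw [CharP.cast_eq_zero_iff F 11] at h1
    exact absurd h1 (by norm_num)
  have h := H412.PslCase.orders_odd h2 11 (e z)
  rw [MulEquiv.orderOf_eq, hz, hF] at h
  revert h
  norm_num

end Cfsg.Agent.H800.Fif
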